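import Cfsg.Agent.H152.QA.Asm
import Cfsg.Agent.H229.NX.Forms

/-!
# S4979, layer (A): the form needed by the assembly (helper152)
-/

set_option autoImplicit false

open Cfsg

namespace Cfsg.Agent.H152.QA

universe u

/-- `LayerA` from the rows and the classification -/
theorem layerA_of_rows (R : Rows) (h0 : ∀ (S : Type) [Group S] [Finite S] [IsSimpleGroup S], IsKnownSimple' S)
    {p q : ℕ} (hp : p.Prime) (hq : q.Prime) : H229.NX.LayerA.{u} p q :=
  fun _ _ _ hq' C _ hK => layerA (fun S _ _ _ hna => R.all (h0 S) hna) hp hq C hq' hK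

end Cfsg.Agent.H152.QA
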