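import Cfsg.Agent.H152.QA.PSit
import Cfsg.Agent.H245.QA.Ch
import Cfsg.Agent.H724.QA.TOne
import Cfsg.Agent.H492.QA5

/-!
# S4979, layer (A): the tools T1, T3 for `PSit` (helper152; proofs from helper245, helper724, helper492)
-/

set_option autoImplicit false
set_option linter.style.haveILetI false
set_option linter.unusedSectionVars false

open Cfsg Module

namespace Cfsg.Agent.H152.QA

open Cfsg.Agent.H80.Fpf Cfsg.Agent.H245.QA

universe u v

/-! ### nontrivial irreducible constituents and codimensions -/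

theorem fixR_le_aux {G : Type u} [Group G] {M : Type v} [AddCommGroup M] [Module ℂ M] [FiniteDimensional ℂ M]
    (ρ : Representation ℂ G M) (N : Subrepresentation ρ) (X : Subgroup G) :
    finrank ℂ N.toSubmodule + finrank ℂ (fixR ρ X) ≤ finrank ℂ M + finrank ℂ (fixR N.toRepresentation X) := by
  have h1 := Submodule.finrank_sup_add_finrank_inf_eq (fixR ρ X) N.toSubmodule
  have h2 := Submodule.finrank_le (fixR ρ X ⊔ N.toSubmodule)
  have h3 : (fixR N.toRepresentation X).map N.toSubmodule.subtype = fixR ρ X ⊓ N.toSubmodule := by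
    ext v
    rw [Submodule.mem_map]
    constructor
    · rintro ⟨w, hw, rfl⟩
      refine ⟨fun g hg => ?_, w.2⟩
      exact congrArg (fun x : N.toSubmodule => (x : M)) (hw g hg)
    · rintro ⟨h4, h5⟩
      exact ⟨⟨v, h5⟩, fun g hg => Subtype.ext (h4 g hg), rfl⟩
  have h4 : finrank ℂ (fixR N.toRepresentation X) = finrank ℂ (fixR ρ X ⊓ N.toSubmodule : Submodule ℂ M) := by
    rw [← h3]
    exact (Submodule.finrank_map_subtype_eq N.toSubmodule _).symm
  omega

/-- a nontrivial irreducible constituent, with the codimensions of the fixed spaces -/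
theorem exists_irr_ne_fix {G : Type u} [Group G] [Finite G] : ∀ (n : ℕ) (M : Type) [AddCommGroup M] [Module ℂ M]
    [FiniteDimensional ℂ M] (ρ : Representation ℂ G M), finrank ℂ M = n → (∃ g, ρ g ≠ 1) →
    ∃ (d' : ℕ) (τ : Representation ℂ G (Fin d' → ℂ)), τ.IsIrreducible ∧ (∃ g, τ g ≠ 1) ∧
      ∀ X : Subgroup G, d' + finrank ℂ (fixR ρ X) ≤ n + finrank ℂ (fixR τ X) := by
  intro n
  induction n using Nat.strong_induction_on with
  | _ n ih =>
    intro M _ _ _ ρ hn hρ
    by_cases hirr : ρ.IsIrreducible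
    · obtain ⟨d', τ, hτ, ⟨e⟩⟩ := Cfsg.Agent.S0184.exists_fin_model ρ hirr
      have hcomm : ∀ (g : G) (v : M), e (ρ g v) = τ g (e v) := fun g v =>
        Representation.IntertwiningMap.isIntertwining _ _ e.toIntertwiningMap g v
      have hdim : finrank ℂ M = d' := by
        have := e.toLinearEquiv.finrank_eq
        rwa [Module.finrank_fin_fun] at this
      refine ⟨d', τ, hτ, ?_, fun X => ?_⟩
      · obtain ⟨g, hg⟩ := hρ
        refine ⟨g, fun h1 => hg ?_⟩
        refine LinearMap.ext fun v => ?_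
        apply e.toLinearEquiv.injective
        have h2 := hcomm g v
        rw [h1] at h2
        exact h2
      · have h1 : fixR τ X = (fixR ρ X).map e.toLinearEquiv.toLinearMap := by
          ext v
          rw [Submodule.mem_map]
          constructor
          · intro h
            obtain ⟨w, rfl⟩ := e.toLinearEquiv.surjective v
            refine ⟨w, fun g hg => ?_, rfl⟩
            apply e.toLinearEquiv.injective
            exact (hcomm g w).trans (h g hg)
          · rintro ⟨w, hw, rfl⟩ g hg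
            exact (hcomm g w).symm.trans (congrArg e (hw g hg))
        have h2 : finrank ℂ (fixR τ X) = finrank ℂ (fixR ρ X) := by
          rw [h1]
          exact LinearEquiv.finrank_map_eq e.toLinearEquiv _
        rw [h2, ← hn, hdim]
    have hnt : Nontrivial M := by
      by_contra hcon
      rw [not_nontrivial_iff_subsingleton] at hcon
      obtain ⟨g, hg⟩ := hρ
      apply hg
      ext v
      exact Subsingleton.elim _ _
    have hnt2 : Nontrivial (Subrepresentation ρ) := by
      refine ⟨⊥, ⊤, ?_⟩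
      intro he
      obtain ⟨v, hv⟩ := exists_ne (0 : M)
      have h1 : (⊥ : Submodule ℂ M) = ⊤ := congrArg Subrepresentation.toSubmodule he
      have h2 : v ∈ (⊤ : Submodule ℂ M) := Submodule.mem_top
      rw [← h1] at h2
      exact hv ((Submodule.mem_bot ℂ).1 h2)
    have hex : ∃ N : Subrepresentation ρ, N ≠ ⊥ ∧ N ≠ ⊤ := by
      by_contra hcon
      push Not at hcon
      apply hirr
      exact { eq_bot_or_eq_top := fun N => by
                by_cases hN : N = ⊥
                · exact Or.inl hN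
                · exact Or.inr (hcon N hN) }
    obtain ⟨N, hN1, hN2⟩ := hex
    have hss : ρ.IsSemisimpleRepresentation := by
      rw [Representation.isSemisimpleRepresentation_iff_isSemisimpleModule_asModule]
      have : NeZero (Nat.card G : ℂ) := ⟨Nat.cast_ne_zero.2 Nat.card_pos.ne'⟩
      infer_instance
    obtain ⟨N', hNN'⟩ := hss.exists_isCompl N
    have hsup : N.toSubmodule ⊔ N'.toSubmodule = ⊤ := by
      have := hNN'.codisjoint.eq_top
      exact congrArg Subrepresentation.toSubmodule this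
    have hinf : N.toSubmodule ⊓ N'.toSubmodule = ⊥ := by
      have := hNN'.disjoint.eq_bot
      exact congrArg Subrepresentation.toSubmodule this
    have hdim := Submodule.finrank_sup_add_finrank_inf_eq N.toSubmodule N'.toSubmodule
    rw [hsup, hinf, finrank_top, finrank_bot, add_zero] at hdim
    have hNtop : N.toSubmodule ≠ ⊤ := fun he => hN2 (Subrepresentation.toSubmodule_injective he)
    have hNbot : N.toSubmodule ≠ ⊥ := fun he => hN1 (Subrepresentation.toSubmodule_injective he)
    have hlt : finrank ℂ N.toSubmodule < finrank ℂ M := Submodule.finrank_lt hNtop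
    have hpos : 0 < finrank ℂ N.toSubmodule := by
      rw [Nat.pos_iff_ne_zero]
      intro h0
      exact hNbot (Submodule.finrank_eq_zero.1 h0)
    by_cases hc : ∃ g, N.toRepresentation g ≠ 1
    · obtain ⟨d', τ, hτ, hτ1, h5⟩ := ih _ (by omega) N.toSubmodule N.toRepresentation rfl hc
      refine ⟨d', τ, hτ, hτ1, fun X => ?_⟩
      have h6 := h5 X
      have h7 := fixR_le_aux ρ N X
      omega
    by_cases hc' : ∃ g, N'.toRepresentation g ≠ 1
    · obtain ⟨d', τ, hτ, hτ1, h5⟩ := ih _ (by omega) N'.toSubmodule N'.toRepresentation rfl hc'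
      refine ⟨d', τ, hτ, hτ1, fun X => ?_⟩
      have h6 := h5 X
      have h7 := fixR_le_aux ρ N' X
      omega
    exfalso
    push Not at hc hc'
    obtain ⟨g, hg⟩ := hρ
    apply hg
    ext v
    have hv : v ∈ N.toSubmodule ⊔ N'.toSubmodule := by rw [hsup]; exact Submodule.mem_top
    obtain ⟨a, ha, c, hc2, rfl⟩ := Submodule.mem_sup.1 hv
    have e1 : ρ g a = a := congrArg Subtype.val (LinearMap.congr_fun (hc g) ⟨a, ha⟩)
    have e2 : ρ g c = c := congrArg Subtype.val (LinearMap.congr_fun (hc' g) ⟨c, hc2⟩)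
    rw [map_add, e1, e2]
    rfl

/-- **The character bound** modulo the centre: `|Z(K)| |χ(x)|² ≤ |C_K(x)|` for `x` of order prime to `|Z(K)|`. -/
theorem norm_sq_mul_center_le {K : Type} [Group K] [Finite K] {d : ℕ} (ρ : Representation ℂ K (Fin d → ℂ))
    (hρ : ρ.IsIrreducible) (x : K) (hx : (Nat.card (Subgroup.center K)).Coprime (orderOf x)) :
    (Nat.card (Subgroup.center K) : ℝ) * ‖ρ.character x‖ ^ 2 ≤ Nat.card (Subgroup.centralizer ({x} : Set K)) := by
  classical
  haveI : Fintype K := Fintype.ofFinite K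
  haveI := hρ
  set Z := Subgroup.center K with hZ
  set C := Subgroup.centralizer ({x} : Set K) with hC
  let F : K → ℝ := fun g => ‖ρ.character g‖ ^ 2
  let f : K × Z → K := fun t => t.1 * (x * t.2) * t.1⁻¹
  have hFf : ∀ t, F (f t) = F x := by
    intro t
    show ‖ρ.character (t.1 * (x * t.2) * t.1⁻¹)‖ ^ 2 = ‖ρ.character x‖ ^ 2
    rw [Representation.char_conj, norm_character_mul ρ hρ t.2.2 x]
  have hfib : ∀ y : K, ((Finset.univ : Finset (K × Z)).filter (fun t => f t = y)).card ≤ Nat.card C := by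
    intro y
    rcases ((Finset.univ : Finset (K × Z)).filter (fun t => f t = y)).eq_empty_or_nonempty with h0 | ⟨t, ht⟩
    · rw [h0, Finset.card_empty]; exact Nat.zero_le _
    have ht' := (Finset.mem_filter.1 ht).2
    have key : ∀ t', f t' = y → t'.2 = t.2 ∧ t.1⁻¹ * t'.1 ∈ C := by
      intro t' ht2
      have h1 : t'.1 * (x * t'.2) * t'.1⁻¹ = t.1 * (x * t.2) * t.1⁻¹ := ht2.trans ht'.symm
      set u : K := t.1⁻¹ * t'.1 with hu
      have h2 : u * (x * t'.2) * u⁻¹ = x * t.2 := by
        have h3 : u * (x * t'.2) * u⁻¹ = t.1⁻¹ * (t'.1 * (x * t'.2) * t'.1⁻¹) * t.1 := by rw [hu]; group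
        rw [h3, h1]; group
      have hzc : ∀ (w : K) (z : Z), (z : K) * w = w * z := fun w z => (Subgroup.mem_center_iff.1 z.2 w).symm
      have h3 : u * x * u⁻¹ * (t'.2 : K) = x * t.2 := by
        rw [← h2]
        rw [mul_assoc, ← hzc u⁻¹ t'.2]
        group
      have h4 : u * x * u⁻¹ = x * ((t.2 * t'.2⁻¹ : Z) : K) := by
        rw [Subgroup.coe_mul, Subgroup.coe_inv, ← mul_assoc, ← h3, mul_inv_cancel_right]
      have h5 : IsConj (x * ((t.2 * t'.2⁻¹ : Z) : K)) x := by
        rw [← h4]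
        exact (isConj_iff.2 ⟨u, rfl⟩ : IsConj x (u * x * u⁻¹)).symm
      have h6 : ((t.2 * t'.2⁻¹ : Z) : K) = 1 := by
        refine H492.QA5.eq_one_of_isConj (t.2 * t'.2⁻¹ : Z).2 rfl ?_ h5
        apply Nat.Coprime.coprime_dvd_left _ hx
        have h7 := orderOf_dvd_natCard (t.2 * t'.2⁻¹ : Z)
        rwa [← Subgroup.orderOf_coe] at h7
      have h7 : t.2 * t'.2⁻¹ = 1 := Subtype.ext h6
      refine ⟨(mul_inv_eq_one.1 h7).symm, ?_⟩
      rw [hC, Subgroup.mem_centralizer_singleton_iff]
      rw [h6, mul_one] at h4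
      exact mul_inv_eq_iff_eq_mul.1 h4
    rw [Nat.card_eq_fintype_card, Fintype.card_subtype]
    refine Finset.card_le_card_of_injOn (fun t' => t.1⁻¹ * t'.1) ?_ ?_
    · intro t' ht2
      rw [Finset.mem_coe, Finset.mem_filter] at ht2 ⊢
      exact ⟨Finset.mem_univ _, (key t' ht2.2).2⟩
    · intro a ha b hb hab
      rw [Finset.mem_coe, Finset.mem_filter] at ha hb
      exact Prod.ext (mul_left_cancel hab) ((key a ha.2).1.trans (key b hb.2).1.symm)
  have hsum : ∑ g, F g = Nat.card K := Cfsg.Agent.S0191.sum_norm_sq ρ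
  have h1 : ((Nat.card K : ℝ) * Nat.card Z) * F x ≤ Nat.card C * Nat.card K := by
    calc ((Nat.card K : ℝ) * Nat.card Z) * F x = ∑ t : K × Z, F (f t) := by
          rw [Finset.sum_congr rfl (fun t _ => hFf t), Finset.sum_const, Finset.card_univ, nsmul_eq_mul,
            Fintype.card_prod, Nat.card_eq_fintype_card, Nat.card_eq_fintype_card, Nat.cast_mul]
      _ = ∑ y : K, ∑ t ∈ (Finset.univ : Finset (K × Z)).filter (fun t => f t = y), F (f t) :=
          (Finset.sum_fiberwise_of_maps_to (fun _ _ => Finset.mem_univ _) _).symm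
      _ ≤ ∑ y : K, (Nat.card C : ℝ) * F y := by
          apply Finset.sum_le_sum
          intro y _
          rw [Finset.sum_congr rfl (g := fun _ => F y) (fun t ht => by rw [(Finset.mem_filter.1 ht).2]), Finset.sum_const,
            nsmul_eq_mul]
          exact mul_le_mul_of_nonneg_right (by exact_mod_cast hfib y) (by positivity)
      _ = Nat.card C * Nat.card K := by rw [← Finset.mul_sum, hsum]
  have hK : (0 : ℝ) < Nat.card K := by exact_mod_cast Nat.card_pos
  have h2 : ((Nat.card Z : ℝ) * F x) * Nat.card K ≤ Nat.card C * Nat.card K := by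
    refine le_trans (le_of_eq ?_) h1
    ring
  exact le_of_mul_le_mul_right h2 hK

section P
variable {p q : ℕ} {G V S : Type} [Group G] [Finite G] [AddCommGroup V] [Finite V] [DistribMulAction G V]
  [Group S] [Finite S] [IsSimpleGroup S] {ψ : G →* S}

/-! ### T1 -/

theorem PSit.card_le (h : PSit p q G V) (X : Subgroup G) (hX : IsPGroup p X) :
    Nat.card V ≤ (Subgroup.normalizer (X : Set G)).index * Nat.card (fixV G V X) :=
  H245.QA.card_le h.hp h.P1 X hX

theorem PSit.not_dvd_ker (h : PSit p q G V) (hψ : IsCover ψ) : ¬ p ∣ Nat.card ψ.ker :=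
  fun hd => h.pZ (hd.trans (Subgroup.card_dvd_of_le hψ.central))

theorem PSit.index_normalizer (h : PSit p q G V) (hψ : IsCover ψ) (X : Subgroup G) (hX : IsPGroup p X) :
    (Subgroup.normalizer (X : Set G)).index = (Subgroup.normalizer ((X.map ψ : Subgroup S) : Set S)).index :=
  H245.QA.index_normalizer hψ.surj hψ.central h.hp (h.not_dvd_ker hψ) X hX

theorem PSit.exists_lift' (h : PSit p q G V) (hψ : IsCover ψ) (Y : Subgroup S) (hY : IsPGroup p Y) :
    ∃ X : Subgroup G, IsPGroup p X ∧ X.map ψ = Y ∧ Nat.card X = Nat.card Y ∧ ∀ x ∈ X, ψ x = 1 → x = 1 :=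
  exists_lift_pGroup hψ.surj h.hp (h.not_dvd_ker hψ) Y hY

theorem PSit.exists_lift (h : PSit p q G V) (hψ : IsCover ψ) (Y : Subgroup S) (hY : IsPGroup p Y) :
    ∃ X : Subgroup G, IsPGroup p X ∧ X.map ψ = Y ∧ Nat.card X = Nat.card Y := by
  obtain ⟨X, h1, h2, h3, -⟩ := h.exists_lift' hψ Y hY
  exact ⟨X, h1, h2, h3⟩

theorem PSit.exists_lift_elt (h : PSit p q G V) (hψ : IsCover ψ) (y : S) (hy : ∃ k, orderOf y = p ^ k) :
    ∃ x : G, ψ x = y ∧ orderOf x = orderOf y := by
  obtain ⟨k, hk⟩ := hy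
  have h1 : IsPGroup p (Subgroup.zpowers y) := by
    haveI : Fact p.Prime := ⟨h.hp⟩
    rw [IsPGroup.iff_card]
    exact ⟨k, by rw [Nat.card_zpowers, hk]⟩
  obtain ⟨X, h2, h3, h4, h5⟩ := h.exists_lift' hψ _ h1
  have h6 : y ∈ X.map ψ := by rw [h3]; exact Subgroup.mem_zpowers y
  obtain ⟨x, hx, hxy⟩ := h6
  refine ⟨x, hxy, ?_⟩
  apply Nat.dvd_antisymm
  · rw [orderOf_dvd_iff_pow_eq_one]
    apply h5 _ (X.pow_mem hx _)
    rw [map_pow, hxy, pow_orderOf_eq_one]
  · rw [← hxy]
    exact orderOf_map_dvd ψ x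

theorem PSit.card_centralizer (h : PSit p q G V) (hψ : IsCover ψ) (x : G) (hx : ∃ k, orderOf x = p ^ k) :
    Nat.card (Subgroup.centralizer ({x} : Set G)) =
      Nat.card (Subgroup.center G) * Nat.card (Subgroup.centralizer ({ψ x} : Set S)) := by
  obtain ⟨k, hk⟩ := hx
  have h1 : Subgroup.centralizer ({x} : Set G) = (Subgroup.centralizer ({ψ x} : Set S)).comap ψ := by
    ext y
    rw [Subgroup.mem_comap, Subgroup.mem_centralizer_singleton_iff, Subgroup.mem_centralizer_singleton_iff]
    constructor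
    · intro hy
      rw [← map_mul, hy, map_mul]
    · intro hy
      set z : G := x⁻¹ * (y * x * y⁻¹) with hz
      have h2 : z ∈ ψ.ker := by
        rw [MonoidHom.mem_ker, hz, map_mul, map_mul, map_mul, map_inv, map_inv, hy]
        group
      have h3 : z ∈ Subgroup.center G := hψ.central h2
      have h4 : IsConj (x * z) x := by
        rw [hz, mul_inv_cancel_left]
        exact (isConj_iff.2 ⟨y, rfl⟩ : IsConj x (y * x * y⁻¹)).symm
      have h5 : z = 1 := by
        refine H492.QA5.eq_one_of_isConj h3 rfl ?_ h4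
        rw [hk]
        apply Nat.Coprime.pow_right
        rw [Nat.coprime_comm, Nat.Prime.coprime_iff_not_dvd h.hp]
        intro hd
        apply h.pZ
        refine hd.trans ?_
        have h6 := orderOf_dvd_natCard (⟨z, h3⟩ : Subgroup.center G)
        rwa [Subgroup.orderOf_mk] at h6
      have h6 : y * x * y⁻¹ = x := by
        have : x * z = y * x * y⁻¹ := by rw [hz, mul_inv_cancel_left]
        rw [← this, h5, mul_one]
      exact mul_inv_eq_iff_eq_mul.1 h6
  have h2 : (Subgroup.centralizer ({x} : Set G)).index = (Subgroup.centralizer ({ψ x} : Set S)).index := by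
    rw [h1]
    exact Subgroup.index_comap_of_surjective _ hψ.surj
  have h3 : Nat.card G = Nat.card (Subgroup.center G) * Nat.card S := by
    rw [← H492.QA5.IsCover.ker_eq hψ, ← Subgroup.card_mul_index ψ.ker, Subgroup.index_ker,
      MonoidHom.range_eq_top.2 hψ.surj, Subgroup.card_top]
  have h4 := Subgroup.card_mul_index (Subgroup.centralizer ({x} : Set G))
  have h5 := Subgroup.card_mul_index (Subgroup.centralizer ({ψ x} : Set S))
  have h6 : 0 < (Subgroup.centralizer ({ψ x} : Set S)).index := Nat.pos_of_ne_zero Subgroup.index_ne_zero_of_finite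
  apply Nat.eq_of_mul_eq_mul_right h6
  rw [← h2] at h5 ⊢
  rw [h4, h3, mul_assoc, h5]

/-- degree bounds for the covers of `S` in the sense of H80 -/
theorem minDeg_of_cover (hψ : IsCover ψ) {B : ℕ} (hB : MinDeg S B) : Cfsg.Agent.H122.MinDeg G B := by
  apply Cfsg.Agent.H122.minDeg_of_irr
  intro M _ _ _ ρ hρ hne
  obtain ⟨d', τ, hτ, ⟨e⟩⟩ := Cfsg.Agent.S0184.exists_fin_model ρ hρ
  have hcomm : ∀ (g : G) (v : M), e (ρ g v) = τ g (e v) := fun g v =>
    Representation.IntertwiningMap.isIntertwining _ _ e.toIntertwiningMap g v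
  have hdim : finrank ℂ M = d' := by
    have := e.toLinearEquiv.finrank_eq
    rwa [Module.finrank_fin_fun] at this
  rw [hdim]
  apply H724.QA.two_le_of_ne hψ hB τ
  obtain ⟨g, hg⟩ := hne
  refine ⟨g, fun h1 => hg ?_⟩
  refine LinearMap.ext fun v => ?_
  apply e.toLinearEquiv.injective
  have h2 := hcomm g v
  rw [h1] at h2
  exact h2

theorem PSit.exists_ne (h : PSit p q G V) : ∃ (g : G) (v : V), g • v ≠ v := by
  by_contra hno
  push Not at hno
  have h1 : ∀ g : G, g = 1 := fun g => h.faith g (hno g)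
  have h2 := h.pG
  haveI : Subsingleton G := ⟨fun a b => by rw [h1 a, h1 b]⟩
  rw [Nat.card_unique] at h2
  exact h.hp.one_lt.ne' (Nat.dvd_one.1 h2)

/-- no fixed points of the whole group -/
theorem PSit.fixV_top (h : PSit p q G V) : fixV G V ⊤ = ⊥ := by
  rcases h.irr (fixV G V ⊤) (fun g w hw => by rw [hw g trivial]; exact hw) with h1 | h1
  · exact h1
  exfalso
  obtain ⟨g, v, hgv⟩ := h.exists_ne
  have hv : v ∈ fixV G V ⊤ := by rw [h1]; trivial
  exact hgv (hv g trivial)

/-! ### T3 -/

theorem PSit.exists_repR (h : PSit p q G V) :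
    ∃ (d : ℕ) (ρ : Representation ℂ G (Fin d → ℂ)), Nat.card V = q ^ d ∧
      ∀ X : Subgroup G, Nat.card (fixV G V X) = q ^ finrank ℂ (fixR ρ X) := by
  haveI : Fact q.Prime := ⟨h.hq⟩
  exact exists_rep_fix h.exp h.qG

theorem PSit.exists_rep (h : PSit p q G V) :
    ∃ (d : ℕ) (ρ : Representation ℂ G (Fin d → ℂ)), Nat.card V = q ^ d ∧
      ∀ X : Subgroup G, Nat.card (fixV G V X) =
        q ^ Module.finrank ℂ ({ carrier := {v | ∀ g ∈ X, ρ g v = v}
                                add_mem' := fun ha hb g hg => by rw [map_add, ha g hg, hb g hg]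
                                zero_mem' := fun g _ => map_zero (ρ g)
                                smul_mem' := fun c v hv g hg => by rw [map_smul, hv g hg] } : Submodule ℂ (Fin d → ℂ)) :=
  h.exists_repR

/-- the representation is faithful -/
theorem faithful_of_fix (h : PSit p q G V) {d : ℕ} {ρ : Representation ℂ G (Fin d → ℂ)}
    (hd : Nat.card V = q ^ d) (hρ : ∀ X : Subgroup G, Nat.card (fixV G V X) = q ^ finrank ℂ (fixR ρ X)) (g : G)
    (hg : ρ g = 1) : g = 1 := by
  have h1 : fixR ρ (Subgroup.zpowers g) = ⊤ := by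
    rw [eq_top_iff]
    rintro v - x hx
    have h0 : Subgroup.zpowers g ≤ MonoidHom.ker ρ := Subgroup.zpowers_le.2 hg
    have h2 : ρ x = 1 := h0 hx
    rw [h2]
    rfl
  have h2 := hρ (Subgroup.zpowers g)
  rw [h1, finrank_top, Module.finrank_fin_fun, ← hd] at h2
  have h3 : (fixV G V (Subgroup.zpowers g)) = ⊤ := by
    apply AddSubgroup.eq_top_of_card_eq
    exact h2
  apply h.faith
  intro v
  have h4 : v ∈ fixV G V (Subgroup.zpowers g) := by rw [h3]; trivial
  exact h4 g (Subgroup.mem_zpowers g)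

/-- `|V| = q ^ d`, `B ≤ d` -/
theorem PSit.exists_dim (h : PSit p q G V) {B : ℕ} (hB : Cfsg.Agent.H122.MinDeg G B) :
    ∃ d : ℕ, Nat.card V = q ^ d ∧ B ≤ d := by
  obtain ⟨d, ρ, hd, hρ⟩ := h.exists_repR
  refine ⟨d, hd, ?_⟩
  have h1 : ∃ g, ρ g ≠ 1 := by
    obtain ⟨g, v, hgv⟩ := h.exists_ne
    refine ⟨g, fun h2 => hgv ?_⟩
    rw [faithful_of_fix h hd hρ g h2, one_smul]
  have h2 := hB (Fin d → ℂ) ρ h1
  rwa [finrank_fin_fun] at h2

/-- the arithmetic of the CH criterion -/
theorem ch_arith {d f d' f' B c x : ℕ} (hx : 0 < x) (hB : B ≤ d') (hf : f ≤ d) (h1 : d' + f ≤ d + f')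
    (h2 : x * f' ≤ d' + (x - 1) * c) : ((x - 1) * (B - c) + (x - 1)) / x ≤ d - f := by
  obtain ⟨y, rfl⟩ : ∃ y, x = y + 1 := ⟨x - 1, by omega⟩
  rw [Nat.add_sub_cancel] at h2 ⊢
  have h3 : (y + 1) * (d' - (d - f)) ≤ (y + 1) * f' := Nat.mul_le_mul_left _ (by omega)
  have h4 : y * (B - c) ≤ (y + 1) * (d - f) := by
    rcases Nat.lt_or_ge (d - f) d' with h5 | h5
    · obtain ⟨u, hu⟩ : ∃ u, d' = (d - f) + u := ⟨d' - (d - f), by omega⟩
      have h6 : d' - (d - f) = u := by omega
      rw [h6] at h3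
      have h7 : y * (B - c) ≤ y * (d' - c) := Nat.mul_le_mul_left _ (by omega)
      rcases Nat.lt_or_ge d' c with h8 | h8
      · have h9 : B - c = 0 := by omega
        rw [h9, mul_zero]; exact Nat.zero_le _
      · obtain ⟨w, hw⟩ : ∃ w, d' = c + w := ⟨d' - c, by omega⟩
        have h9 : d' - c = w := by omega
        rw [h9] at h7
        refine h7.trans ?_
        have e1 : (y + 1) * u ≤ (d - f) + u + y * c := by
          have := h3.trans h2
          rw [hu] at this
          exact this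
        have e2 : c + w = (d - f) + u := by omega
        have e3 : y * c + y * w = y * (d - f) + y * u := by rw [← mul_add, ← mul_add, e2]
        have e4 : (y + 1) * u = y * u + u := by ring
        have e5 : (y + 1) * (d - f) = y * (d - f) + (d - f) := by ring
        omega
    · calc y * (B - c) ≤ (y + 1) * d' := Nat.mul_le_mul (by omega) (by omega)
        _ ≤ (y + 1) * (d - f) := Nat.mul_le_mul_left _ h5
  calc (y * (B - c) + y) / (y + 1) ≤ ((y + 1) * (d - f) + y) / (y + 1) := Nat.div_le_div_right (by omega)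
    _ = d - f := by
      rw [Nat.mul_add_div (by omega)]
      rw [Nat.div_eq_of_lt (Nat.lt_succ_self y), add_zero]

/-- **CH criterion** for a group `K` mapping to `G`. -/
theorem PSit.ch_hom (h : PSit p q G V) {K : Type} [Group K] [Finite K] (f : K →* G) (hf : ∃ k, f k ≠ 1) {B c : ℕ}
    (hB : Cfsg.Agent.H122.MinDeg K B) (hK : ¬ p ∣ Nat.card (Subgroup.center K)) (X : Subgroup K) (hX : IsPGroup p X)
    (hc : ∀ x ∈ X, x ≠ 1 → Nat.card (Subgroup.centralizer ({x} : Set K)) ≤ c ^ 2 * Nat.card (Subgroup.center K)) :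
    q ^ (((Nat.card X - 1) * (B - c) + (Nat.card X - 1)) / Nat.card X) ≤
      (Subgroup.normalizer ((X.map f : Subgroup G) : Set G)).index := by
  haveI : Fact p.Prime := ⟨h.hp⟩
  obtain ⟨d, ρ, hd, hρ⟩ := h.exists_repR
  let ρ' : Representation ℂ K (Fin d → ℂ) := ρ.comp f
  have hne : ∃ k, ρ' k ≠ 1 := by
    obtain ⟨k, hk⟩ := hf
    exact ⟨k, fun h1 => hk (faithful_of_fix h hd hρ (f k) h1)⟩
  obtain ⟨d', τ, hτ, hτ1, h5⟩ := exists_irr_ne_fix _ _ ρ' rfl hne
  have hBd : B ≤ d' := by
    have h6 := hB (Fin d' → ℂ) τ hτ1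
    rwa [finrank_fin_fun] at h6
  have hfixX : fixR ρ' X = fixR ρ (X.map f) := by
    ext v
    constructor
    · rintro h6 g ⟨x, hx, rfl⟩
      exact h6 x hx
    · intro h6 x hx
      exact h6 (f x) ⟨x, hx, rfl⟩
  have h6 := h5 X
  rw [hfixX, finrank_fin_fun] at h6
  have h7 : Nat.card X * finrank ℂ (fixR τ X) ≤ d' + (Nat.card X - 1) * c := by
    apply card_mul_fix_le τ X
    intro x hx hx1
    have h8 : (Nat.card (Subgroup.center K)).Coprime (orderOf x) := by
      obtain ⟨k, hk⟩ := (IsPGroup.iff_orderOf.1 hX) ⟨x, hx⟩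
      rw [Subgroup.orderOf_mk] at hk
      rw [hk]
      apply Nat.Coprime.pow_right
      rw [Nat.coprime_comm, Nat.Prime.coprime_iff_not_dvd h.hp]
      exact hK
    have h9 := norm_sq_mul_center_le τ hτ x h8
    have h10 : (Nat.card (Subgroup.centralizer ({x} : Set K)) : ℝ) ≤ (c : ℝ) ^ 2 * Nat.card (Subgroup.center K) := by
      exact_mod_cast hc x hx hx1
    have h11 : (0 : ℝ) < Nat.card (Subgroup.center K) := by exact_mod_cast Nat.card_pos
    have h12 : ‖τ.character x‖ ^ 2 ≤ (c : ℝ) ^ 2 := by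
      have h13 := h9.trans h10
      rw [mul_comm] at h13
      exact le_of_mul_le_mul_right h13 h11
    exact le_of_sq_le_sq h12 (by positivity)
  have h8 := h.card_le (X.map f) (hX.map f)
  rw [hd, hρ] at h8
  have hfd : finrank ℂ (fixR ρ (X.map f)) ≤ d := by
    have := Submodule.finrank_le (fixR ρ (X.map f))
    rwa [finrank_fin_fun] at this
  have h9 : q ^ (d - finrank ℂ (fixR ρ (X.map f))) ≤ (Subgroup.normalizer ((X.map f : Subgroup G) : Set G)).index := by
    have h10 : q ^ d = q ^ (d - finrank ℂ (fixR ρ (X.map f))) * q ^ finrank ℂ (fixR ρ (X.map f)) := by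
      rw [← pow_add]; congr 1; omega
    rw [h10] at h8
    exact Nat.le_of_mul_le_mul_right h8 (Nat.pow_pos h.hq.pos)
  refine le_trans (Nat.pow_le_pow_right h.hq.pos ?_) h9
  exact ch_arith Nat.card_pos hBd hfd h6 h7

/-- **CH criterion** for `G` itself, centralizers in `S` -/
theorem PSit.ch (h : PSit p q G V) (hψ : IsCover ψ) {B c : ℕ} (hB : Cfsg.Agent.H122.MinDeg G B) (X : Subgroup S)
    (hX : IsPGroup p X) (hc : ∀ x ∈ X, x ≠ 1 → Nat.card (Subgroup.centralizer ({x} : Set S)) ≤ c ^ 2) :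
    q ^ (((Nat.card X - 1) * (B - c) + (Nat.card X - 1)) / Nat.card X) ≤
      (Subgroup.normalizer (X : Set S)).index := by
  haveI : Fact p.Prime := ⟨h.hp⟩
  obtain ⟨Y, hY, hYX, hcard, hinj⟩ := h.exists_lift' hψ X hX
  have h1 : ∃ k, MonoidHom.id G k ≠ 1 := by
    obtain ⟨g, v, hgv⟩ := h.exists_ne
    exact ⟨g, fun h2 => hgv (by rw [show g = 1 from h2, one_smul])⟩
  have h2 := h.ch_hom (MonoidHom.id G) h1 hB h.pZ Y hY (c := c) (fun y hy hy1 => by
    obtain ⟨k, hk⟩ := (IsPGroup.iff_orderOf.1 hY) ⟨y, hy⟩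
    rw [Subgroup.orderOf_mk] at hk
    rw [h.card_centralizer hψ y ⟨k, hk⟩, mul_comm]
    apply Nat.mul_le_mul_right
    apply hc
    · rw [← hYX]; exact ⟨y, hy, rfl⟩
    · exact fun h3 => hy1 (hinj y hy h3))
  rw [Subgroup.map_id, h.index_normalizer hψ Y hY, hYX, hcard] at h2
  exact h2

/-- the special case of an element `x` of order `p` -/
theorem PSit.ch_elt (h : PSit p q G V) (hψ : IsCover ψ) {B c : ℕ} (hB : Cfsg.Agent.H122.MinDeg G B) (x : S)
    (hx : orderOf x = p) (hc : Nat.card (Subgroup.centralizer ({x} : Set S)) ≤ c ^ 2) :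
    q ^ (((p - 1) * (B - c) + (p - 1)) / p) ≤
      (Subgroup.normalizer ((Subgroup.zpowers x : Subgroup S) : Set S)).index := by
  haveI : Fact p.Prime := ⟨h.hp⟩
  have hcard : Nat.card (Subgroup.zpowers x) = p := by rw [Nat.card_zpowers, hx]
  have hP : IsPGroup p (Subgroup.zpowers x) := by
    rw [IsPGroup.iff_card]
    exact ⟨1, by rw [hcard, pow_one]⟩
  have h1 := h.ch hψ hB (Subgroup.zpowers x) hP (c := c) (fun y hy hy1 => by
    have h2 : Subgroup.zpowers y = Subgroup.zpowers x := by
      apply Subgroup.eq_of_le_of_card_ge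
      · rw [Subgroup.zpowers_le]; exact hy
      · rw [hcard, Nat.card_zpowers]
        have h3 := Subgroup.orderOf_dvd_natCard _ hy
        rw [hcard] at h3
        rcases (Nat.dvd_prime h.hp).1 h3 with h4 | h4
        · exact absurd (orderOf_eq_one_iff.1 h4) hy1
        · exact h4.ge
    have h3 : Subgroup.centralizer ({y} : Set S) = Subgroup.centralizer ({x} : Set S) := by
      rw [← Subgroup.centralizer_closure, ← Subgroup.centralizer_closure ({x} : Set S),
        ← Subgroup.zpowers_eq_closure, ← Subgroup.zpowers_eq_closure, h2]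
    rw [h3]; exact hc)
  rw [hcard] at h1
  exact h1

end P

end Cfsg.Agent.H152.QA
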