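import Cfsg.Agent.H152.QA.Defs
import Cfsg.Agent.H80.Fpf.Mult
import Cfsg.Agent.H122.MinDeg

/-!
# S4979, layer (A): the faithful form `PSit` (P1 only) (helper152)

`PSit p q G V`: the finite group `G` acts faithfully and irreducibly on the module `V` of prime exponent `q`, `q ∤ |G|`, `p` odd,
`p ∣ |G|`, `p ∤ |Z(G)|` and every vector is fixed by a Sylow `p`-subgroup.

`Sit.exists_pSit`: a `Sit` over `S` gives one with `G = L / N`, a cover of `S`.
-/

set_option autoImplicit false
set_option linter.style.haveILetI false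
set_option linter.unusedSectionVars false

open Cfsg

namespace Cfsg.Agent.H152.QA

open Cfsg.Agent.H80.Fpf

/-- faithful irreducible coprime module all of whose vectors are fixed by Sylow `p`-subgroups -/
structure PSit (p q : ℕ) (G V : Type) [Group G] [Finite G] [AddCommGroup V] [Finite V] [DistribMulAction G V] : Prop where
  hp : p.Prime
  hq : q.Prime
  odd : p ≠ 2
  ne : p ≠ q
  pG : p ∣ Nat.card G
  pZ : ¬ p ∣ Nat.card (Subgroup.center G)
  qG : ¬ q ∣ Nat.card G
  exp : ∀ v : V, q • v = 0
  nt : Nontrivial V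
  faith : ∀ g : G, (∀ v : V, g • v = v) → g = 1
  irr : ∀ W : AddSubgroup V, (∀ g : G, ∀ w ∈ W, g • w ∈ W) → W = ⊥ ∨ W = ⊤
  P1 : ∀ v : V, ¬ p ∣ (MulAction.stabilizer G v).index

section
variable {p q : ℕ} {L V S : Type} [Group L] [Finite L] [AddCommGroup V] [Finite V] [DistribMulAction L V]
  [Group S] [Finite S] [IsSimpleGroup S] {π : L →* S} {N : Subgroup L} {φ : N →* ℂˣ}

/-- the action of `L / N` -/
@[reducible] def quoAction [N.Normal] (hker : ∀ g ∈ N, ∀ v : V, g • v = v) : DistribMulAction (L ⧸ N) V where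
  smul x v := Quotient.liftOn' x (fun g => g • v) (fun a b hab => by
    have h1 := QuotientGroup.leftRel_apply.1 hab
    have h2 := hker _ h1 v
    calc a • v = a • ((a⁻¹ * b) • v) := by rw [h2]
      _ = b • v := by rw [← mul_smul, mul_inv_cancel_left])
  one_smul v := one_smul L v
  mul_smul x y v := Quotient.inductionOn₂' x y fun a b => mul_smul a b v
  smul_zero x := Quotient.inductionOn' x fun a => smul_zero a
  smul_add x v w := Quotient.inductionOn' x fun a => smul_add a v w

theorem Sit.exists_pSit (h : Sit (V := V) p q N φ) (hπ : IsCover π) :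
    ∃ (G : Type) (_ : Group G) (_ : Finite G) (_ : DistribMulAction G V) (f : L →* G) (ψ : G →* S),
      Function.Surjective f ∧ f.ker = N ∧ (∀ (g : L) (v : V), f g • v = g • v) ∧ IsCover ψ ∧ (∀ g, ψ (f g) = π g) ∧
      PSit p q G V := by
  have hNn : N.Normal := ⟨fun n hn g => by
    have h1 := Subgroup.mem_center_iff.1 (h.cen hn) g
    rw [h1, mul_inv_cancel_right]; exact hn⟩
  have hker : ∀ g ∈ N, ∀ v : V, g • v = v := fun g hg => (h.ker g).2 hg
  letI : DistribMulAction (L ⧸ N) V := quoAction hker
  have hsm : ∀ (g : L) (v : V), (QuotientGroup.mk' N g) • v = g • v := fun g v => rfl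
  have hSna : ¬ (∀ a b : S, a * b = b * a) := by
    intro hc
    have hcS : commutator S = ⊤ := by
      have h1 := hπ.perf
      rw [← top_le_iff]
      intro s _
      obtain ⟨g, rfl⟩ := hπ.surj s
      have h2 : g ∈ commutator L := by rw [h1]; trivial
      have h3 : π g ∈ (commutator L).map π := ⟨g, h2, rfl⟩
      rw [commutator_def, Subgroup.map_commutator] at h3
      rw [commutator_def]
      exact Subgroup.commutator_mono le_top le_top h3
    have h4 : commutator S = ⊥ := by
      rw [commutator_def, Subgroup.commutator_eq_bot_iff_le_centralizer]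
      intro a _
      rw [Subgroup.mem_centralizer_iff]
      intro b _
      exact hc b a
    rw [hcS] at h4
    exact (bot_ne_top (α := Subgroup S)) h4.symm
  have hZS : Subgroup.center S = ⊥ := by
    rcases Subgroup.Normal.eq_bot_or_eq_top (inferInstance : (Subgroup.center S).Normal) with h1 | h1
    · exact h1
    · exfalso
      apply hSna
      intro a b
      have h2 : b ∈ Subgroup.center S := by rw [h1]; trivial
      exact Subgroup.mem_center_iff.1 h2 a
  have hNk : N ≤ π.ker := by
    intro n hn
    have h1 : π n ∈ Subgroup.center S := by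
      rw [Subgroup.mem_center_iff]
      intro s
      obtain ⟨g, rfl⟩ := hπ.surj s
      rw [← map_mul, ← map_mul, Subgroup.mem_center_iff.1 (h.cen hn) g]
    rw [hZS, Subgroup.mem_bot] at h1
    exact h1
  let ψ : L ⧸ N →* S := QuotientGroup.lift N π (fun n hn => hNk hn)
  have hψ : ∀ g, ψ (QuotientGroup.mk' N g) = π g := fun g => rfl
  have hcov : IsCover ψ := by
    refine ⟨?_, ?_, ?_⟩
    · intro s
      obtain ⟨g, rfl⟩ := hπ.surj s
      exact ⟨QuotientGroup.mk' N g, rfl⟩
    · intro x hx
      obtain ⟨g, rfl⟩ := QuotientGroup.mk'_surjective N x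
      have h1 : g ∈ Subgroup.center L := hπ.central hx
      rw [Subgroup.mem_center_iff]
      intro y
      obtain ⟨k, rfl⟩ := QuotientGroup.mk'_surjective N y
      rw [← map_mul, ← map_mul, Subgroup.mem_center_iff.1 h1 k]
    · rw [← top_le_iff]
      intro y _
      obtain ⟨k, rfl⟩ := QuotientGroup.mk'_surjective N y
      have h2 : k ∈ commutator L := by rw [hπ.perf]; trivial
      have h3 : QuotientGroup.mk' N k ∈ (commutator L).map (QuotientGroup.mk' N) := ⟨k, h2, rfl⟩
      rw [commutator_def, Subgroup.map_commutator] at h3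
      rw [commutator_def]
      exact Subgroup.commutator_mono le_top le_top h3
  have hcardL : Nat.card L = Nat.card (L ⧸ N) * Nat.card N := Subgroup.card_eq_card_quotient_mul_card_subgroup N
  have hpN : ¬ p ∣ Nat.card N := fun h1 => h.pZ (h1.trans (Subgroup.card_dvd_of_le h.cen))
  -- the centre of `L / N` is the image of the centre
  have hcen : ∀ g : L, QuotientGroup.mk' N g ∈ Subgroup.center (L ⧸ N) → g ∈ Subgroup.center L := by
    intro g hg
    apply hπ.central
    have h1 : ψ (QuotientGroup.mk' N g) ∈ Subgroup.center S := by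
      rw [Subgroup.mem_center_iff]
      intro s
      obtain ⟨k, rfl⟩ := hcov.surj s
      rw [← map_mul, ← map_mul, Subgroup.mem_center_iff.1 hg k]
    rw [hZS, Subgroup.mem_bot] at h1
    exact h1
  have hpZ : ¬ p ∣ Nat.card (Subgroup.center (L ⧸ N)) := by
    intro h1
    apply h.pZ
    have h2 : Subgroup.center (L ⧸ N) ≤ (Subgroup.center L).map (QuotientGroup.mk' N) := by
      intro x hx
      obtain ⟨g, rfl⟩ := QuotientGroup.mk'_surjective N x
      exact ⟨g, hcen g hx, rfl⟩
    exact h1.trans ((Subgroup.card_dvd_of_le h2).trans (Subgroup.card_map_dvd _ _))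
  refine ⟨L ⧸ N, inferInstance, inferInstance, inferInstance, QuotientGroup.mk' N, ψ, QuotientGroup.mk'_surjective N,
    QuotientGroup.ker_mk' N, hsm, hcov, hψ, ?_⟩
  refine ⟨h.hp, h.hq, h.odd, h.ne, ?_, hpZ, ?_, h.exp, h.nt, ?_, ?_, ?_⟩
  · have h1 := h.pL
    rw [hcardL] at h1
    exact (h.hp.dvd_mul.1 h1).resolve_right hpN
  · intro h1
    apply h.qL
    rw [hcardL]
    exact h1.mul_right _
  · intro x hx
    obtain ⟨g, rfl⟩ := QuotientGroup.mk'_surjective N x
    have h1 : g ∈ N := (h.ker g).1 (fun v => hx v)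
    exact (QuotientGroup.eq_one_iff g).2 h1
  · intro W hW
    exact h.irr W (fun g w hw => hW (QuotientGroup.mk' N g) w hw)
  · intro v h1
    apply h.P1 v
    have h2 : MulAction.stabilizer L v = (MulAction.stabilizer (L ⧸ N) v).comap (QuotientGroup.mk' N) := by
      ext g
      rfl
    rw [h2, Subgroup.index_comap_of_surjective _ (QuotientGroup.mk'_surjective N)]
    exact h1

/-- the same with `|ker π| = |ker ψ| |N|`, `N` not trivial -/
theorem Sit.exists_pSit' (h : Sit (V := V) p q N φ) (hπ : IsCover π) :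
    ∃ (G : Type) (_ : Group G) (_ : Finite G) (_ : DistribMulAction G V) (ψ : G →* S),
      IsCover ψ ∧ Nat.card π.ker = Nat.card ψ.ker * Nat.card N ∧ 1 < Nat.card N ∧ PSit p q G V := by
  obtain ⟨G, _, _, _, f, ψ, hf, hfk, -, hψ, hc, hP⟩ := h.exists_pSit hπ
  refine ⟨G, inferInstance, inferInstance, inferInstance, ψ, hψ, ?_, ?_, hP⟩
  · have h1 : π = ψ.comp f := MonoidHom.ext fun g => (hc g).symm
    have h2 : Nat.card L = Nat.card f.ker * Nat.card G := by
      rw [← Subgroup.card_mul_index f.ker, Subgroup.index_ker, MonoidHom.range_eq_top.2 hf, Subgroup.card_top]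
    have h3 : Nat.card L = Nat.card π.ker * Nat.card S := by
      rw [← Subgroup.card_mul_index π.ker, Subgroup.index_ker, MonoidHom.range_eq_top.2 hπ.surj, Subgroup.card_top]
    have h4 : Nat.card G = Nat.card ψ.ker * Nat.card S := by
      rw [← Subgroup.card_mul_index ψ.ker, Subgroup.index_ker, MonoidHom.range_eq_top.2 hψ.surj, Subgroup.card_top]
    have hS : 0 < Nat.card S := Nat.card_pos
    apply Nat.eq_of_mul_eq_mul_right hS
    rw [← h3, h2, h4, hfk]
    ring
  · rw [Subgroup.one_lt_card_iff_ne_bot]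
    exact h.Nne

/-- multiplier of prime order: `V` is an `S`-module -/
theorem Sit.exists_pSit_prime (h : Sit (V := V) p q N φ) (hπ : IsCover π) {r : ℕ} (hr : r.Prime) (hm : MultDvd S r) :
    ∃ _ : DistribMulAction S V, PSit p q S V := by
  obtain ⟨G, _, _, _, ψ, hψ, hc, hN, hP⟩ := h.exists_pSit' hπ
  have h1 : Nat.card π.ker ∣ r := hm L π hπ
  have h2 : Nat.card ψ.ker = 1 := by
    rcases (Nat.dvd_prime hr).1 h1 with h3 | h3
    · rw [hc] at h3
      exact (Nat.eq_one_of_mul_eq_one_right h3)
    · rw [h3] at hc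
      rcases (Nat.dvd_prime hr).1 ⟨_, hc⟩ with h4 | h4
      · exact h4
      · exfalso
        rw [h4] at hc
        have h5 := hr.pos
        have h6 : Nat.card N = 1 := by
          apply Nat.eq_of_mul_eq_mul_left h5
          rw [← hc, mul_one]
        omega
  have h3 : Function.Injective ψ := by
    rw [← MonoidHom.ker_eq_bot_iff]
    exact Subgroup.card_eq_one.1 h2
  let e : G ≃* S := MulEquiv.ofBijective ψ ⟨h3, hψ.surj⟩
  letI act : DistribMulAction S V := DistribMulAction.compHom V e.symm.toMonoidHom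
  have hact : ∀ (s : S) (v : V), s • v = e.symm s • v := fun s v => rfl
  refine ⟨act, hP.hp, hP.hq, hP.odd, hP.ne, ?_, ?_, ?_, hP.exp, hP.nt, ?_, ?_, ?_⟩
  · rw [← Nat.card_congr e.toEquiv]; exact hP.pG
  · have h4 : Nat.card (Subgroup.center G) = Nat.card (Subgroup.center S) :=
      Nat.card_congr (Subgroup.centerCongr e).toEquiv
    rw [← h4]; exact hP.pZ
  · rw [← Nat.card_congr e.toEquiv]; exact hP.qG
  · intro s hs
    have h4 : e.symm s = 1 := hP.faith _ (fun v => hs v)
    rwa [MulEquiv.map_eq_one_iff] at h4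
  · intro W hW
    exact hP.irr W (fun g w hw => by
      have h4 := hW (e g) w hw
      rw [hact, e.symm_apply_apply] at h4
      exact h4)
  · intro v h4
    apply hP.P1 v
    have h5 : MulAction.stabilizer S v = (MulAction.stabilizer G v).comap e.symm.toMonoidHom := by
      ext g
      rfl
    rw [h5, Subgroup.index_comap_of_surjective _ e.symm.surjective] at h4
    exact h4

end

end Cfsg.Agent.H152.QA
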