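import Cfsg.Agent.H152.QA.Partial2
import Cfsg.Agent.H54.QA.PspRow
import Cfsg.Agent.H389.QU.Gen
import Cfsg.Agent.H963.QA.RowPsu
import Cfsg.Agent.H299.QA.RowU63
import Cfsg.Agent.H309.U92.Row

/-!
# S4979, layer (A): the rows already proved, third part (helper152)
-/

set_option autoImplicit false

open Cfsg Cfsg.Lie

namespace Cfsg.Agent.H152.QA

/-- The rows, from the remaining ones. -/
theorem rows_of3 (H : H440.QA.St4904)
    (u35 : ∀ {F : Type} [Field F] [Fintype F], Fintype.card F = 5 ^ 2 → NoSit (PSU 3 F 5))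
    (u38 : ∀ {F : Type} [Field F] [Fintype F], Fintype.card F = 8 ^ 2 → NoSit (PSU 3 F 8))
    (u45 : ∀ {F : Type} [Field F] [Fintype F], Fintype.card F = 5 ^ 2 → NoSit (PSU 4 F 5))
    (spor : ∀ (S : Type) [Group S] [Finite S] [IsSimpleGroup S], IsSporadicGroup S → NoSit S) : Rows :=
  rows_of2 H (fun _ _ _ m hm ho => H54.QA.row_psp_odd m hm ho)
    (fun _ _ _ _ _ hF hn h3 h42 h43 h62 => H389.QU.row_psu_of u35 u38 u45 (fun hF => H963.QA.row_u54 hF)
      (fun hF => H299.QA.U63.row_u63 hF) (fun hF => H309.U92.row_u92 hF) (fun hF => H963.QA.row_u122 hF) hF hn h3 h42 h43 h62)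
    spor

end Cfsg.Agent.H152.QA
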